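import Groth.Agent.Lib.ProperFin.PushVanish
import Groth.Agent.Lib.ProjSpace.BaseChange
import Groth.Agent.Lib.ProjTilde.Invertible
import Groth.Agent.Lib.Ample.GG
import Groth.Agent.Lib.Modules.ProjFormula
import Groth.Agent.Lib.TensorMod.LocFree
import Groth.Agent.Lib.Curves.GlobalSections
import Groth.Prelude.Def_Twist2
import Mathlib.AlgebraicGeometry.ZariskisMainTheorem

/-!
# Twists on a closed subscheme of projective space and their direct images

Under the hypotheses on projective space collected in `Facts`, for a closed subscheme `j : Y ⟶ P^n_A`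
and `f : Y ⟶ X` over `A`, with `X` proper over `A`, the direct images of high twists are coherent
with finite cohomology.
-/

set_option autoImplicit false
set_option linter.style.haveILetI false

universe u

open CategoryTheory Limits AlgebraicGeometry Opposite TopologicalSpace

namespace Groth.Agent.Lib.ProperFin.Projective

open Groth.Agent.Lib.ProjSpace.BaseChange

/-- `O(d)` on `P^n_R`. -/
noncomputable abbrev O (n : ℕ) (R : Type u) [CommRing R] (d : ℕ) : (CohB1.ProjSpace n R).Modules :=
  Twist.twist (CohB1.polyGrading n R) (d : ℤ)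

/-- What is needed about projective space. -/
structure Facts : Prop where
  inv : ∀ (n : ℕ) (R : Type u) [CommRing R] (d : ℕ), PicF.IsInvertible (O n R d)
  fin : ∀ (n : ℕ) (R : Type u) [CommRing R] [IsNoetherianRing R] (N : (CohB1.ProjSpace n R).Modules),
    Coh.IsCoh N → Finite.QFin R N
  van : ∀ (n : ℕ) (R : Type u) [CommRing R] [IsNoetherianRing R] (N : (CohB1.ProjSpace n R).Modules),
    Coh.IsCoh N → ∃ d₀ : ℕ, ∀ d, d₀ ≤ d → ∀ q,
      Subsingleton (Coh.HH (CohB1.ProjSpace n R) (CohB1.tensorMod (O n R d) N) (q + 1))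
  bc : ∀ (n : ℕ) (R S : Type u) [CommRing R] [CommRing S] (φ : R →+* S) (d : ℕ),
    Nonempty ((Scheme.Modules.pullback (projMap n φ)).obj (O n R d) ≅ O n S d)

/-- Finite generation passes along semilinear surjections. -/
theorem finite_of_semilinear {R S M N : Type*} [CommRing R] [CommRing S] [AddCommGroup M]
    [Module R M] [AddCommGroup N] [Module S N] [Module.Finite R M] (σ : R →+* S) (g : M →+ N)
    (hg : ∀ (r : R) (m : M), g (r • m) = σ r • g m) (hsurj : Function.Surjective g) :
    Module.Finite S N := by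
  classical
  obtain ⟨s, hs⟩ := Module.Finite.fg_top (R := R) (M := M)
  refine ⟨⟨s.image g, eq_top_iff.2 fun x hx' => ?_⟩⟩
  clear hx'
  obtain ⟨m, rfl⟩ := hsurj x
  have hm : m ∈ Submodule.span R (s : Set M) := hs ▸ Submodule.mem_top
  rw [Finset.coe_image]
  induction hm using Submodule.span_induction with
  | mem a ha => exact Submodule.subset_span ⟨a, ha, rfl⟩
  | zero => rw [map_zero]; exact Submodule.zero_mem _
  | add a b _ _ iha ihb => rw [map_add]; exact Submodule.add_mem _ iha ihb
  | smul r a _ iha => rw [hg]; exact Submodule.smul_mem _ _ iha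

variable {P Y : Scheme.{u}}

/-- Direct images of invertible modules along closed immersions are coherent. -/
theorem isCoh_push_closed [IsLocallyNoetherian P] (k : Y ⟶ P) [IsClosedImmersion k] {L : Y.Modules}
    (hL : PicF.IsInvertible L) : Coh.IsCoh ((Coh.push k).obj L) := by
  haveI : IsLocallyNoetherian Y := LocallyOfFiniteType.isLocallyNoetherian k
  have hc := Ample.GG.isCoh_of_isInvertible hL
  haveI := hc.1
  haveI : ((Coh.push k).obj L : P.Modules).IsQuasicoherent :=
    QCoh.Pushforward.isQCoh_pushforward k (M := L)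
  refine CohBasics.Closure.isCoh_of_finite_sections fun U hU => ?_
  obtain ⟨haff, hsurj⟩ := ((isClosedImmersion_iff_isAffineHom (f := k)).mp ‹_›)
  haveI := CohBasics.Closure.finite_sections hc (hU.preimage k)
  classical
  obtain ⟨s, hs⟩ := Module.Finite.fg_top (R := Γ(Y, k ⁻¹ᵁ U)) (M := Γ(L, k ⁻¹ᵁ U))
  refine ⟨⟨s, eq_top_iff.2 fun x hx' => ?_⟩⟩
  suffices ∀ y : Γ(L, k ⁻¹ᵁ U), y ∈ Submodule.span Γ(Y, k ⁻¹ᵁ U) (s : Set Γ(L, k ⁻¹ᵁ U)) →
      (show Γ((Coh.push k).obj L, U) from y) ∈
        Submodule.span Γ(P, U)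
          (show Set Γ((Coh.push k).obj L, U) from (s : Set Γ(L, k ⁻¹ᵁ U))) from
    this x (hs ▸ Submodule.mem_top)
  intro y hy
  induction hy using Submodule.span_induction with
  | mem a ha => exact Submodule.subset_span ha
  | zero => exact Submodule.zero_mem _
  | add a b _ _ iha ihb => exact Submodule.add_mem _ iha ihb
  | smul r a _ iha =>
    obtain ⟨r', rfl⟩ := hsurj U hU r
    exact Submodule.smul_mem _ r' iha

/-- Cohomology of the restriction of a twist to a closed subscheme. -/
theorem exists_iso_push (k : Y ⟶ P) {E : P.Modules} (hE : PicF.IsInvertible E) :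
    Nonempty ((Coh.push k).obj ((Scheme.Modules.pullback k).obj E) ≅
      CohB1.tensorMod E ((Coh.push k).obj (Coh.structureModule Y))) :=
  ⟨(Coh.push k).mapIso (TensorMod.Basic.rightUnit _).symm ≪≫
    ((Modules.ProjFormula.projIso k (E := E) (Modules.DualBasis.hasDBases_of_isFinLocFree
      (TensorMod.LocFree.of_rank (TensorMod.LocFree.of_isInvertible hE)))).app
        (Coh.structureModule Y)).symm⟩

section Affine

variable {R : Type u} [CommRing R] [IsNoetherianRing R] {n : ℕ}

theorem isNoetherian_projSpace : IsLocallyNoetherian (CohB1.ProjSpace n R) :=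
  LocallyOfFiniteType.isLocallyNoetherian (CohB1.ProjSpace.toSpec n R)

variable (F : Facts.{u}) [Y.Over (Spec (CommRingCat.of R))]
  (k : Y ⟶ CohB1.ProjSpace n R) [IsClosedImmersion k]
  (hk : k ≫ CohB1.ProjSpace.toSpec n R = Y ↘ Spec (CommRingCat.of R))

include F hk in
theorem qfin_pullback (E : (CohB1.ProjSpace n R).Modules) (hE : PicF.IsInvertible E) :
    Finite.QFin R ((Scheme.Modules.pullback k).obj E) := fun q => by
  haveI := isNoetherian_projSpace (R := R) (n := n)
  have hL := PicLoc.isInvertible_pullback k hE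
  haveI := (Ample.GG.isCoh_of_isInvertible hL).1
  haveI := F.fin n R _ (isCoh_push_closed k hL) q
  exact Module.Finite.equiv (ZarCoh.Linear.affineLinearEquiv k hk _ q)

include F in
omit [Y.Over (Spec (CommRingCat.of R))] in
theorem exists_vanishing :
    ∃ d₀ : ℕ, ∀ d, d₀ ≤ d → ∀ L : Y.Modules, Nonempty (L ≅ (Scheme.Modules.pullback k).obj (O n R d)) →
      ∀ q, Subsingleton (CohTop.HU (Coh.toAb L) (q + 1) ⊤) := by
  haveI := isNoetherian_projSpace (R := R) (n := n)
  obtain ⟨d₀, h⟩ := F.van n R _ (isCoh_push_closed k (PicLoc.isInvertible_structureModule Y))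
  refine ⟨d₀, fun d hd L hL q => ?_⟩
  obtain ⟨e⟩ := hL
  obtain ⟨e'⟩ := exists_iso_push k (F.inv n R d)
  have hL' := PicLoc.isInvertible_pullback k (F.inv n R d)
  haveI := (Ample.GG.isCoh_of_isInvertible hL').1
  haveI := h d hd q
  let i : (Coh.push k).obj L ≅ CohB1.tensorMod (O n R d) ((Coh.push k).obj (Coh.structureModule Y)) :=
    (Coh.push k).mapIso e ≪≫ e'
  haveI : (L : Y.Modules).IsQuasicoherent := CohBasics.Closure.isQCoh_of_iso e.symm
  haveI h1 : Subsingleton (Coh.HH (CohB1.ProjSpace n R) ((Coh.push k).obj L) (q + 1)) :=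
    (Curves.LES.isoK R i (q + 1)).toEquiv.subsingleton
  haveI h2 : Subsingleton (Coh.HH Y L (q + 1)) :=
    (ZarCoh.Morph.affineEquiv k L (q + 1)).symm.toEquiv.subsingleton
  exact (ZarCoh.Compare.hTop (Coh.toAb L) (q + 1)).symm.toEquiv.subsingleton

include F hk in
theorem finite_sections (E : (CohB1.ProjSpace n R).Modules) (hE : PicF.IsInvertible E)
    (L : Y.Modules) (e : L ≅ (Scheme.Modules.pullback k).obj E) :
    ∀ (N : Type u) [AddCommGroup N] [Module R N] (g : Γ(L, ⊤) →+ N),
      Function.Surjective g →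
      (∀ (r : R) (x : Γ(L, ⊤)),
        g ((show Γ(Y, ⊤) from Coh.toGlobal (Y ↘ Spec (CommRingCat.of R)) r) • x) = r • g x) →
      Module.Finite R N := by
  intro N _ _ g hg hlin
  haveI := qfin_pullback F k hk E hE 0
  haveI : Module.Finite R (Coh.HH Y L 0) := Module.Finite.equiv (Curves.LES.isoK R e.symm 0)
  refine finite_of_semilinear (RingHom.id R)
    (g.comp (Curves.GlobalSections.h0Equiv L).toAddMonoidHom) (fun r m => ?_)
    (hg.comp (Curves.GlobalSections.h0Equiv L).surjective)
  show g (Curves.GlobalSections.h0Equiv L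
    (Coh.toGlobal (Y ↘ Spec (CommRingCat.of R)) r • m)) = r • g (Curves.GlobalSections.h0Equiv L m)
  rw [Curves.GlobalSections.h0Equiv_smul]
  exact hlin r _

end Affine

section Geometry

variable {A : Type u} [CommRing A] [IsNoetherianRing A] {X : Scheme.{u}}
  [X.Over (Spec (CommRingCat.of A))] [IsProper (X ↘ Spec (CommRingCat.of A))]
  [Y.Over (Spec (CommRingCat.of A))] (f : Y ⟶ X)
  (hf : f ≫ (X ↘ Spec (CommRingCat.of A)) = Y ↘ Spec (CommRingCat.of A)) {n : ℕ}
  (j : Y ⟶ CohB1.ProjSpace n A) [IsClosedImmersion j]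
  (hj : j ≫ CohB1.ProjSpace.toSpec n A = Y ↘ Spec (CommRingCat.of A))

include hf hj in
theorem isProper_of_hyp : IsProper f := by
  haveI : IsProper (f ≫ (X ↘ Spec (CommRingCat.of A))) := by
    rw [hf, ← hj]; infer_instance
  exact IsProper.of_comp f (X ↘ Spec (CommRingCat.of A))

variable (V : X.Opens)

/-- The base ring acting on the functions on an open. -/
noncomputable def ringMap (A : Type u) [CommRing A] {X : Scheme.{u}}
    [X.Over (Spec (CommRingCat.of A))] (V : X.Opens) : A →+* Γ(X, V) :=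
  V.topIso.hom.hom.comp
    (show A →+* Γ((V : Scheme.{u}), ⊤) from Coh.toGlobal (V.ι ≫ (X ↘ Spec (CommRingCat.of A))))

include hf hj in
/-- Over an affine open the morphism factors through projective space over its ring. -/
theorem exists_chart (hV : IsAffineOpen V) :
    ∃ k : (f ⁻¹ᵁ V : Scheme.{u}) ⟶ CohB1.ProjSpace n Γ(X, V), IsClosedImmersion k ∧
      k ≫ CohB1.ProjSpace.toSpec n Γ(X, V) = (f ∣_ V) ≫ hV.isoSpec.hom ∧
      k ≫ projMap n (ringMap A V) = (f ⁻¹ᵁ V).ι ≫ j := by
  haveI := isProper_of_hyp f hf j hj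
  let φ : A →+* Γ(X, V) := ringMap A V
  haveI : IsAffine (V : Scheme.{u}) := hV
  have hφ : hV.isoSpec.hom ≫ Spec.map (CommRingCat.ofHom φ) = V.ι ≫ (X ↘ Spec (CommRingCat.of A)) := by
    refine ext_of_isAffine ?_
    simp [φ, ringMap, Coh.toGlobal, IsAffineOpen.isoSpec, Scheme.isoSpec]
    exact (congrArg (fun t => _ ≫ t) ((X.presheaf.map_comp _ _).symm.trans
      ((congrArg X.presheaf.map (Subsingleton.elim _ (𝟙 _))).trans (X.presheaf.map_id _)))).trans
      (Category.comp_id _)
  have hsq : ((f ∣_ V) ≫ hV.isoSpec.hom) ≫ Spec.map (CommRingCat.ofHom φ) =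
      ((f ⁻¹ᵁ V).ι ≫ j) ≫ CohB1.ProjSpace.toSpec n A := by
    rw [Category.assoc, hφ, morphismRestrict_ι_assoc, hf, Category.assoc, hj]
  let H := isPullback_projMap n φ
  let k := H.lift ((f ⁻¹ᵁ V).ι ≫ j) ((f ∣_ V) ≫ hV.isoSpec.hom) hsq.symm
  have hk₁ : k ≫ projMap n φ = (f ⁻¹ᵁ V).ι ≫ j := H.lift_fst _ _ _
  have hk₂ : k ≫ CohB1.ProjSpace.toSpec n Γ(X, V) = (f ∣_ V) ≫ hV.isoSpec.hom := H.lift_snd _ _ _
  refine ⟨k, (IsClosedImmersion.iff_isProper_and_mono k).mpr ⟨?_, ?_⟩, hk₂, hk₁⟩
  · haveI : IsProper (f ∣_ V) := MorphismProperty.of_isPullback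
      (isPullback_morphismRestrict f V).flip inferInstance
    haveI : IsProper (k ≫ CohB1.ProjSpace.toSpec n Γ(X, V)) := by rw [hk₂]; infer_instance
    exact IsProper.of_comp k (CohB1.ProjSpace.toSpec n Γ(X, V))
  · haveI : Mono (k ≫ projMap n φ) := by rw [hk₁]; infer_instance
    exact mono_of_mono k (projMap n φ)

end Geometry

end Groth.Agent.Lib.ProperFin.Projective
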