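import Groth.Agent.Lib.ProperFin.TwistBC
import Groth.Agent.Lib.ProperFin.Projective

/-!
# Twists on projective space: invertibility and base change
-/

set_option autoImplicit false

universe u

open CategoryTheory AlgebraicGeometry MvPolynomial

namespace Groth.Agent.Lib.ProperFin.ProjFacts

open Groth.Agent.Lib.ProjSpace.BaseChange Groth.Agent.Lib.ProperFin.Projective

theorem exists_degOne (n : ℕ) (R : Type u) [CommRing R] (x : ProjectiveSpectrum (CohB1.polyGrading n R)) :
    ∃ f ∈ CohB1.polyGrading n R 1, f ∉ x.asHomogeneousIdeal := by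
  by_contra h
  push Not at h
  refine x.not_irrelevant_le fun z hz => ?_
  have h0 : coeff 0 z = 0 := by
    have h' := (HomogeneousIdeal.mem_irrelevant_iff _ _).mp hz
    rw [GradedRing.proj_apply] at h'
    have h'' : homogeneousComponent 0 z = 0 := by
      rw [← decomposition.decompose'_apply]; exact h'
    rw [homogeneousComponent_zero] at h''
    exact C_injective _ _ (h''.trans C_0.symm)
  rw [as_sum z]
  refine Ideal.sum_mem _ fun e he => ?_
  have he0 : e ≠ 0 := by rintro rfl; exact (mem_support_iff.mp he) h0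
  obtain ⟨i, hi⟩ := Finsupp.ne_iff.mp he0
  obtain ⟨e', rfl⟩ : ∃ e', e = Finsupp.single i 1 + e' :=
    ⟨e - Finsupp.single i 1, (add_tsub_cancel_of_le (Finsupp.single_le_iff.mpr
      (Nat.one_le_iff_ne_zero.mpr hi))).symm⟩
  rw [monomial_single_add, pow_one]
  exact Ideal.mul_mem_right _ _ (h (X i) ((mem_homogeneousSubmodule 1 _).mpr (isHomogeneous_X R i)))

theorem isInvertible_O (n : ℕ) (R : Type u) [CommRing R] (d : ℕ) : PicF.IsInvertible (O n R d) :=
  ProjTilde.Invertible.twist_isInvertible_of_cover (exists_degOne n R) (d : ℤ)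

theorem nonempty_pullback_O (n : ℕ) (R S : Type u) [CommRing R] [CommRing S] (φ : R →+* S) (d : ℕ) :
    Nonempty ((Scheme.Modules.pullback (projMap n φ)).obj (O n R d) ≅ O n S d) :=
  TwistBC.nonempty_pullback_twist_iso (mapHom n φ) (irrelevant_le_map n φ) (exists_degOne n R) d

/-- The facts about projective space, given finiteness and vanishing. -/
theorem facts_of
    (fin : ∀ (n : ℕ) (R : Type u) [CommRing R] [IsNoetherianRing R] (N : (CohB1.ProjSpace n R).Modules),
      Coh.IsCoh N → Finite.QFin R N)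
    (van : ∀ (n : ℕ) (R : Type u) [CommRing R] [IsNoetherianRing R] (N : (CohB1.ProjSpace n R).Modules),
      Coh.IsCoh N → ∃ d₀ : ℕ, ∀ d, d₀ ≤ d → ∀ q,
        Subsingleton (Coh.HH (CohB1.ProjSpace n R) (CohB1.tensorMod (O n R d) N) (q + 1))) :
    Facts.{u} :=
  ⟨isInvertible_O, fin, van, nonempty_pullback_O⟩

end Groth.Agent.Lib.ProperFin.ProjFacts
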