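import Groth.Agent.Lib.Devissage.Closure
import Groth.Agent.Lib.TensorMod.Gen

/-!
# Direct images of invertible modules with stalk of length one

If `π : Y ⟶ Z` is an isomorphism over a neighbourhood of `z` and `L` is invertible, the stalk of
`π_* L` at `z` is free of rank one.
-/

set_option autoImplicit false
set_option linter.style.haveILetI false

universe u

open CategoryTheory Limits AlgebraicGeometry Opposite TopologicalSpace

namespace Groth.Agent.Lib.ProperFin.Generator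

open Groth.Agent.Lib.Modules.StalkModule Groth.Agent.Lib.TensorMod.Gen Groth.Agent.Lib.TensorMod.Dual

variable {Y Z X : Scheme.{u}} (π : Y ⟶ Z) {U : Z.Opens}

lemma isIso_app (hU : IsIso (π ∣_ U)) {V : Z.Opens} (hV : V ≤ U) : IsIso (π.app V) := by
  obtain ⟨W, rfl⟩ : ∃ W : (U : Scheme.{u}).Opens, U.ι ''ᵁ W = V :=
    ⟨U.ι ⁻¹ᵁ V, by rw [Scheme.Hom.image_preimage_eq_opensRange_inf, Scheme.Opens.opensRange_ι]
                   exact inf_eq_right.2 hV⟩
  have h : IsIso ((π ∣_ U).app W) := inferInstance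
  rw [morphismRestrict_app] at h
  exact @IsIso.of_isIso_comp_right _ _ _ _ _ _
    (Y.presheaf.map (eqToHom (image_morphismRestrict_preimage π U W)).op) inferInstance h

/-- Over an open on which `π` is an isomorphism and `L` is generated, the sections of `π_* L` are
free on one generator. -/
theorem exists_gen (hU : IsIso (π ∣_ U)) {L : Y.Modules} (hL : PicF.IsInvertible L) {z : Z}
    (hz : z ∈ U) : ∃ (W : Z.Opens) (_ : z ∈ W) (e : Γ((Coh.push π).obj L, W)),
      IsGen ((Coh.push π).obj L) W e := by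
  obtain ⟨y', hy'⟩ := (π ∣_ U).homeomorph.surjective ⟨z, hz⟩
  change (π ∣_ U) y' = ⟨z, hz⟩ at hy'
  obtain ⟨U', e, hy, he⟩ := isInvertible_iff.1 hL ((π ⁻¹ᵁ U).ι y')
  let O : (π ⁻¹ᵁ U : Y.Opens).toScheme.Opens := (π ⁻¹ᵁ U).ι ⁻¹ᵁ U'
  let O' : (U : Scheme.{u}).Opens := ⟨(π ∣_ U) '' (O : Set _), (π ∣_ U).homeomorph.isOpenMap _ O.2⟩
  let W : Z.Opens := U.ι ''ᵁ O'
  have hWU : W ≤ U := U.ι_image_le O'
  have hzW : z ∈ W := ⟨⟨z, hz⟩, ⟨y', hy, hy'⟩, rfl⟩
  have hO : (π ∣_ U) ⁻¹ᵁ O' = O :=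
    TopologicalSpace.Opens.ext
      (show (π ∣_ U) ⁻¹' ((π ∣_ U) '' (O : Set _)) = (O : Set _) from
        Function.Injective.preimage_image (π ∣_ U).homeomorph.injective _)
  have hWU' : π ⁻¹ᵁ W ≤ U' := by
    show π ⁻¹ᵁ (U.ι ''ᵁ O') ≤ U'
    rw [← image_morphismRestrict_preimage, hO, Scheme.Hom.image_preimage_eq_opensRange_inf]
    exact inf_le_right
  refine ⟨W, hzW, rs L hWU' e, fun V hV => ?_⟩
  haveI := isIso_app π hU (hV.trans hWU)
  have key : (fun a : Γ(Z, V) => a • rs ((Coh.push π).obj L) hV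
      (show Γ((Coh.push π).obj L, W) from rs L hWU' e)) =
      (fun b : Γ(Y, π ⁻¹ᵁ V) => b • rs L ((π.preimage_mono hV).trans hWU') e) ∘ π.app V := by
    funext a
    show π.app V a • rs L (π.preimage_mono hV) (rs L hWU' e) = _
    rw [rs_rs]
    rfl
  rw [key]
  exact (he _ _).comp (ConcreteCategory.bijective_of_isIso (π.app V))

/-- A module with a free generator near `z` has stalk free of rank one there. -/
theorem nonempty_stalk_equiv {M : Z.Modules} {W : Z.Opens} {z : Z} (hz : z ∈ W) {e : Γ(M, W)}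
    (he : IsGen M W e) :
    Nonempty (Z.presheaf.stalk z ≃ₗ[Z.presheaf.stalk z] M.presheaf.stalk z) := by
  refine ⟨LinearEquiv.ofBijective
    (LinearMap.toSpanSingleton (Z.presheaf.stalk z) _ (M.presheaf.germ W z hz e)) ⟨?_, ?_⟩⟩
  · rw [injective_iff_map_eq_zero]
    intro a ha
    obtain ⟨V, hzV, r, rfl⟩ := TopCat.Presheaf.exists_germ_eq Z.presheaf a
    have h0 : M.presheaf.germ (V ⊓ W) z ⟨hzV, hz⟩
        (Z.presheaf.map (homOfLE (inf_le_left : V ⊓ W ≤ V)).op r • rs M inf_le_right e) = 0 := by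
      rw [germ_smul, TopCat.Presheaf.germ_res_apply]
      erw [TopCat.Presheaf.germ_res_apply]
      exact ha
    obtain ⟨W', hzW', i₁, i₂, hW'⟩ := TopCat.Presheaf.germ_eq M.presheaf (U := V ⊓ W) (V := V ⊓ W) z
      ⟨hzV, hz⟩ ⟨hzV, hz⟩ _ 0 (h0.trans (map_zero _).symm)
    rw [map_zero] at hW'
    have h1 : Z.presheaf.map i₁.op (Z.presheaf.map (homOfLE (inf_le_left : V ⊓ W ≤ V)).op r) = 0 := by
      apply (he W' (i₁.le.trans inf_le_right)).1
      show _ • rs M _ e = (0 : Γ(Z, W')) • rs M _ e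
      rw [zero_smul]
      refine Eq.trans ?_ hW'
      refine Eq.trans ?_ (Scheme.Modules.map_smul M i₁ _ _).symm
      exact congrArg _ (rs_rs M inf_le_right i₁.le e).symm
    rw [← TopCat.Presheaf.germ_res_apply Z.presheaf (homOfLE (inf_le_left : V ⊓ W ≤ V)) z ⟨hzV, hz⟩ r,
      ← TopCat.Presheaf.germ_res_apply Z.presheaf i₁ z hzW', h1, map_zero]
  · intro v
    obtain ⟨V, hzV, s, rfl⟩ := TopCat.Presheaf.exists_germ_eq M.presheaf v
    obtain ⟨a, ha⟩ := (he (V ⊓ W) inf_le_right).2 (rs M inf_le_left s)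
    refine ⟨Z.presheaf.germ (V ⊓ W) z ⟨hzV, hz⟩ a, ?_⟩
    rw [LinearMap.toSpanSingleton_apply]
    rw [← TopCat.Presheaf.germ_res_apply M.presheaf (homOfLE (inf_le_right : V ⊓ W ≤ W)) z ⟨hzV, hz⟩ e,
      ← germ_smul]
    exact (congrArg (M.presheaf.germ (V ⊓ W) z ⟨hzV, hz⟩) ha).trans
      (TopCat.Presheaf.germ_res_apply M.presheaf (homOfLE inf_le_left) z ⟨hzV, hz⟩ s)

/-- The stalk of the direct image at the generic point has length one. -/
theorem length_push [IsIntegral Z] (i : Z ⟶ X) [IsClosedImmersion i] (hU : IsIso (π ∣_ U))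
    (hne : genericPoint Z ∈ U) {L : Y.Modules} (hL : PicF.IsInvertible L) :
    Module.length (X.presheaf.stalk (i (genericPoint Z)))
      (((Coh.push (π ≫ i)).obj L).presheaf.stalk (i (genericPoint Z))) = 1 := by
  let e : (Coh.push i).obj ((Coh.push π).obj L) ≅ (Coh.push (π ≫ i)).obj L :=
    (Scheme.Modules.pushforwardComp π i).app L
  rw [← (stalkLinearEquiv e (i (genericPoint Z))).length_eq, Cyc.SheafLen.length_push_stalk]
  obtain ⟨W, hzW, g, hg⟩ := exists_gen π hU hL hne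
  obtain ⟨φ⟩ := nonempty_stalk_equiv hzW hg
  rw [← φ.length_eq, Module.length_eq_one_iff]
  let _ : Field (Z.presheaf.stalk (genericPoint Z)) := inferInstanceAs (Field Z.functionField)
  infer_instance

end Groth.Agent.Lib.ProperFin.Generator
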