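import Groth.Agent.Lib.ProperFin.Projective
import Groth.Agent.Lib.ProperFin.Generator
import Groth.Agent.Lib.Chow.Main
import Groth.Agent.H75.RedSub

/-!
# Finiteness of coherent cohomology on proper schemes, given the facts about projective space
-/

set_option autoImplicit false
set_option linter.style.haveILetI false

universe u

open CategoryTheory Limits AlgebraicGeometry Opposite TopologicalSpace

namespace Groth.Agent.Lib.ProperFin.Assembly

open Groth.Agent.Lib.ProperFin.Projective Groth.Agent.Lib.ProjSpace.BaseChange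
open Groth.Agent.Lib.Devissage.Basic (CohIn)

variable {A : Type u} [CommRing A] [IsNoetherianRing A] {X : Scheme.{u}}
  [X.Over (Spec (CommRingCat.of A))] [IsProper (X ↘ Spec (CommRingCat.of A))]

theorem exists_finite_affine_cover (U : X.Opens) (hU : IsCompact (U : Set X)) :
    ∃ (ι : Type u) (_ : _root_.Finite ι) (V : ι → X.Opens), (∀ i, IsAffineOpen (V i)) ∧ iSup V = U := by
  obtain ⟨s, hs, hcov⟩ := isCompact_and_isOpen_iff_finite_and_eq_biUnion_affineOpens.mp ⟨hU, U.2⟩
  haveI := hs.to_subtype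
  refine ⟨s, inferInstance, fun i => i.1.1, fun i => i.1.2, ?_⟩
  apply TopologicalSpace.Opens.ext
  rw [TopologicalSpace.Opens.coe_iSup, hcov]
  ext x
  simp

theorem affInter_of_isSeparated {Y : Scheme.{u}} [Y.IsSeparated] {ι : Type u} (U : ι → Y.Opens)
    (hU : ∀ i, IsAffineOpen (U i)) : LocalVanishing.AffInter U := fun {q} i => by
  show IsAffineOpen (⨅ a, U (i a))
  exact IsAffineOpen.iInf fun a => hU (i a)

section Twisted

variable (F : Facts.{u}) {Y : Scheme.{u}} [Y.Over (Spec (CommRingCat.of A))] (f : Y ⟶ X)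
  (hf : f ≫ (X ↘ Spec (CommRingCat.of A)) = Y ↘ Spec (CommRingCat.of A)) {n : ℕ}
  (j : Y ⟶ CohB1.ProjSpace n A) [IsClosedImmersion j]
  (hj : j ≫ CohB1.ProjSpace.toSpec n A = Y ↘ Spec (CommRingCat.of A))

include F hf hj in
/-- Over one affine open high twists have no higher cohomology and finitely many sections. -/
theorem local_facts {V : X.Opens} (hV : IsAffineOpen V) :
    ∃ d₀ : ℕ, ∀ d, d₀ ≤ d →
      (∀ q, Subsingleton (CohTop.HU (Coh.toAb ((Scheme.Modules.pullback j).obj (O n A d))) (q + 1)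
        (f ⁻¹ᵁ V))) ∧
      Module.Finite Γ(X, V) Γ((Coh.push f).obj ((Scheme.Modules.pullback j).obj (O n A d)), V) := by
  haveI : IsLocallyNoetherian X :=
    LocallyOfFiniteType.isLocallyNoetherian (X ↘ Spec (CommRingCat.of A))
  haveI : IsNoetherianRing Γ(X, V) := IsLocallyNoetherian.component_noetherian (X := X) ⟨V, hV⟩
  obtain ⟨k, hk, hk₂, hk₁⟩ := exists_chart f hf j hj V hV
  haveI := hk
  let B := Γ(X, V)
  letI : (f ⁻¹ᵁ V : Scheme.{u}).Over (Spec (CommRingCat.of B)) := ⟨(f ∣_ V) ≫ hV.isoSpec.hom⟩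
  obtain ⟨d₀, hd₀⟩ := exists_vanishing F k
  refine ⟨d₀, fun d hd => ?_⟩
  let M := (Scheme.Modules.pullback j).obj (O n A d)
  let L := M.restrict (f ⁻¹ᵁ V).ι
  obtain ⟨ebc⟩ := F.bc n A B (ringMap A V) d
  let e : L ≅ (Scheme.Modules.pullback k).obj (O n B d) :=
    (Scheme.Modules.restrictFunctorIsoPullback (f ⁻¹ᵁ V).ι).app M ≪≫
      (Scheme.Modules.pullbackComp (f ⁻¹ᵁ V).ι j).app (O n A d) ≪≫
      (Scheme.Modules.pullbackCongr hk₁.symm).app (O n A d) ≪≫
      (Scheme.Modules.pullbackComp k (projMap n (ringMap A V))).symm.app (O n A d) ≪≫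
      (Scheme.Modules.pullback k).mapIso ebc
  have hιtop : (f ⁻¹ᵁ V).ι ''ᵁ ⊤ = f ⁻¹ᵁ V := by simp
  refine ⟨fun q => ?_, ?_⟩
  · haveI : Subsingleton (Abelian.Ext.{u} (ZarCoh.Basic.Zs.obj
        (⊤ : Opens (f ⁻¹ᵁ V : Scheme.{u}))) (Coh.toAb L) (q + 1)) := hd₀ d hd L ⟨e⟩ q
    haveI : Subsingleton (Coh.HH (f ⁻¹ᵁ V : Scheme.{u}) L (q + 1)) :=
      (ZarCoh.Compare.hTop (Coh.toAb L) (q + 1)).toEquiv.subsingleton
    haveI : Subsingleton (CohTop.HU (Coh.toAb M) (q + 1) ((f ⁻¹ᵁ V).ι ''ᵁ ⊤)) :=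
      (ZarCoh.Morph.openEquiv (f ⁻¹ᵁ V).ι M (q + 1)).symm.toEquiv.subsingleton
    rwa [hιtop] at this
  · let g : Γ(L, ⊤) →+ Γ((Coh.push f).obj M, V) :=
      { toFun := fun x => TensorMod.Dual.rs M hιtop.ge ((M.restrictAppIso (f ⁻¹ᵁ V).ι ⊤).hom x)
        map_zero' := (congrArg _ (map_zero _)).trans (map_zero _)
        map_add' := fun x y => (congrArg _ (map_add _ _ _)).trans (map_add _ _ _) }
    refine finite_sections F k (hk₂.trans rfl) (O n B d) (F.inv n B d) L e _ g ?_ ?_
    · intro (y : Γ(M, f ⁻¹ᵁ V))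
      refine ⟨(M.restrictAppIso (f ⁻¹ᵁ V).ι ⊤).inv (TensorMod.Dual.rs M hιtop.le y), ?_⟩
      show TensorMod.Dual.rs M hιtop.ge ((M.restrictAppIso (f ⁻¹ᵁ V).ι ⊤).hom _) = _
      erw [Iso.inv_hom_id_apply, TensorMod.Dual.rs_rs, TensorMod.Dual.rs_self]
    · intro r (x : Γ(M.restrict (f ⁻¹ᵁ V).ι, ⊤))
      show TensorMod.Dual.rs M hιtop.ge ((M.restrictAppIso (f ⁻¹ᵁ V).ι ⊤).hom
          ((show Γ((f ⁻¹ᵁ V : Scheme.{u}), ⊤) from
            Coh.toGlobal ((f ⁻¹ᵁ V : Scheme.{u}) ↘ Spec (CommRingCat.of B)) r) • x)) =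
        f.app V r • TensorMod.Dual.rs M hιtop.ge ((M.restrictAppIso (f ⁻¹ᵁ V).ι ⊤).hom x)
      rw [TensorMod.Gen.restrict_smul, TensorMod.Dual.rs_smul]
      congr 1
      have h1 : Coh.toGlobal ((f ⁻¹ᵁ V : Scheme.{u}) ↘ Spec (CommRingCat.of B)) r =
          (f ∣_ V).appTop (hV.isoSpec.hom.appTop ((Scheme.ΓSpecIso (CommRingCat.of B)).inv r)) := rfl
      rw [h1]
      rw [IsAffineOpen.isoSpec_hom, Scheme.Opens.toSpecΓ_appTop]
      simp [Scheme.Opens.topIso, Scheme.Hom.app_eq_appLE, TensorMod.Dual.rf]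
      erw [Iso.inv_hom_id_apply (Scheme.ΓSpecIso Γ(X, V))]
      change ((X.presheaf.map _ ≫ f.appLE _ _ _) ≫ 𝟙 _ ≫ Y.presheaf.map _) r = _
      rw [Category.id_comp, Scheme.Hom.map_appLE, Scheme.Hom.appLE_map]

include F hf hj in
/-- Some twist has coherent direct image with finite cohomology. -/
theorem exists_good_twist :
    ∃ L : Y.Modules, PicF.IsInvertible L ∧ Coh.IsCoh ((Coh.push f).obj L) ∧
      Finite.QFin A ((Coh.push f).obj L) := by
  haveI : IsLocallyNoetherian X :=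
    LocallyOfFiniteType.isLocallyNoetherian (X ↘ Spec (CommRingCat.of A))
  haveI : CompactSpace X :=
    (quasiCompact_iff_compactSpace (X ↘ Spec (CommRingCat.of A))).mp inferInstance
  haveI := isProper_of_hyp f hf j hj
  haveI : CompactSpace Y := (quasiCompact_iff_compactSpace (f ≫ (X ↘ Spec (CommRingCat.of A)))).mp
    inferInstance
  haveI : Y.IsSeparated := ⟨by
    haveI : IsSeparated (Y ↘ Spec (CommRingCat.of A)) := by rw [← hj]; infer_instance
    rw [← Limits.terminal.comp_from (Y ↘ Spec (CommRingCat.of A))]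
    infer_instance⟩
  obtain ⟨κ, _, V, hV, hcov⟩ := exists_finite_affine_cover (⊤ : X.Opens) isCompact_univ
  choose d₀ hd₀ using fun k => local_facts F f hf j hj (hV k)
  have : Fintype κ := Fintype.ofFinite κ
  let d := Finset.univ.sup d₀
  let L := (Scheme.Modules.pullback j).obj (O n A d)
  have hL : PicF.IsInvertible L := PicLoc.isInvertible_pullback j (F.inv n A d)
  haveI := (Ample.GG.isCoh_of_isInvertible hL).1
  have hd : ∀ k, d₀ k ≤ d := fun k => Finset.le_sup (Finset.mem_univ k)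
  refine ⟨L, hL, PushVanish.isCoh_push f V L hV hcov fun k => (hd₀ k d (hd k)).2,
    PushVanish.qfin_push f V hf L hV hcov (fun k => ?_) (fun k => (hd₀ k d (hd k)).1)
      (qfin_pullback F j hj _ (F.inv n A d))⟩
  obtain ⟨ι, hι, U, hU, hUcov⟩ := exists_finite_affine_cover (X := Y) (f ⁻¹ᵁ V k)
    (f.isCompact_preimage (hV k).isCompact)
  exact ⟨ι, hι, U, affInter_of_isSeparated U hU, hUcov⟩

end Twisted

/-- Every point carries a coherent module with stalk of length one and finite cohomology. -/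
theorem exists_generator (F : Facts.{u}) (y : X) :
    ∃ G : X.Modules, CohIn (closure {y}) G ∧
      Module.length (X.presheaf.stalk y) (G.presheaf.stalk y) = 1 ∧ Finite.QFin A G := by
  haveI : IsLocallyNoetherian X :=
    LocallyOfFiniteType.isLocallyNoetherian (X ↘ Spec (CommRingCat.of A))
  let Z := (IntMult.ptIdeal y).subscheme
  let i : Z ⟶ X := (IntMult.ptIdeal y).subschemeι
  haveI : AlgebraicGeometry.IsReduced Z := H75.RedSub.isReduced_vanishingIdeal _
  have hrange : Set.range i = closure ({y} : Set X) := Devissage.Closure.range_ptIdeal y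
  obtain ⟨z, hz⟩ : y ∈ Set.range i := by rw [hrange]; exact subset_closure rfl
  have hcl : closure {z} = Set.univ := by
    rw [i.isClosedEmbedding.isInducing.closure_eq_preimage_closure_image, Set.image_singleton, hz,
      ← hrange, Set.preimage_range]
  haveI : IrreducibleSpace Z :=
    { isPreirreducible_univ := hcl ▸ isIrreducible_singleton.closure.2
      toNonempty := ⟨z⟩ }
  haveI : IsIntegral Z := isIntegral_of_irreducibleSpace_of_isReduced Z
  have hgen : genericPoint Z = z := ((genericPoint_spec Z).eq (show IsGenericPoint z Set.univ from hcl))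
  let h := i ≫ (X ↘ Spec (CommRingCat.of A))
  haveI : IsLocallyNoetherian Z := LocallyOfFiniteType.isLocallyNoetherian h
  haveI : CompactSpace Z := QuasiCompact.compactSpace_of_compactSpace h
  haveI : IsNoetherian Z := ⟨⟩
  obtain ⟨n, Z', π, j, U, hji, hj, hπ, -, hU, hUiso, -, -⟩ :=
    Chow.Main.chow h TopologicalSpace.NoetherianSpace.finite_irreducibleComponents
  haveI := hji
  haveI := hπ
  let f : Z' ⟶ X := π ≫ i
  letI : Z'.Over (Spec (CommRingCat.of A)) := ⟨π ≫ h⟩
  have hf : f ≫ (X ↘ Spec (CommRingCat.of A)) = Z' ↘ Spec (CommRingCat.of A) :=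
    Category.assoc _ _ _
  let j' : Z' ⟶ CohB1.ProjSpace n A := j ≫ (overSpecIso n A).hom
  have hj' : j' ≫ CohB1.ProjSpace.toSpec n A = Z' ↘ Spec (CommRingCat.of A) := by
    rw [Category.assoc, overSpecIso_hom_toSpec, hj]
    rfl
  haveI : IsClosedImmersion j' := by
    refine (IsClosedImmersion.iff_isProper_and_mono j').mpr ⟨?_, inferInstance⟩
    haveI : IsProper (j' ≫ CohB1.ProjSpace.toSpec n A) := by
      rw [hj']; exact inferInstanceAs (IsProper (π ≫ i ≫ (X ↘ Spec (CommRingCat.of A))))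
    exact IsProper.of_comp j' (CohB1.ProjSpace.toSpec n A)
  obtain ⟨L, hL, hcoh, hfin⟩ := exists_good_twist F f hf j' hj'
  refine ⟨_, ⟨hcoh, fun x hx => ?_⟩, ?_, hfin⟩
  · by_contra hne
    exact hx (Cyc.SheafLen.subsingleton_push_stalk f L (closure {y}) isClosed_closure
      (fun w _ => hrange ▸ ⟨π w, rfl⟩) x hne)
  · have hne : genericPoint Z ∈ U := by
      obtain ⟨w, hw⟩ := hU.nonempty
      exact ((genericPoint_spec Z).mem_open_set_iff U.2).mpr ⟨w, trivial, hw⟩
    have := Generator.length_push π i hUiso hne hL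
    rwa [hgen, hz] at this

/-- Finiteness of coherent cohomology on a proper scheme over a Noetherian ring. -/
theorem qfin_of_isCoh (F : Facts.{u}) (M : X.Modules) (hM : Coh.IsCoh M) : Finite.QFin A M := by
  haveI : IsLocallyNoetherian X :=
    LocallyOfFiniteType.isLocallyNoetherian (X ↘ Spec (CommRingCat.of A))
  haveI : CompactSpace X :=
    (quasiCompact_iff_compactSpace (X ↘ Spec (CommRingCat.of A))).mp inferInstance
  haveI : IsNoetherian X := ⟨⟩
  exact Devissage.devissage (Finite.QFin A) ⊤ (Finite.thick_qfin _)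
    (fun y _ => exists_generator F y) M ⟨hM, Set.subset_univ _⟩

end Groth.Agent.Lib.ProperFin.Assembly
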