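import Groth.Agent.Lib.ProperFin.Devissage
import Groth.Agent.Lib.Curves.LES
import Groth.Agent.Lib.ZarCoh.Linear
import Groth.Agent.Lib.QCoh.Pushforward

/-!
# Finiteness of cohomology as a thick property; direct images without higher cohomology

`thick_qfin`: over a Noetherian base ring, having finite cohomology passes from two terms of a short
exact sequence to the third.  `qfin_push`: if the cohomology of `M` vanishes on the preimages of a
basis, then `f_* M` has finite cohomology as soon as `M` has.
-/

set_option autoImplicit false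
set_option linter.style.haveILetI false

universe u

open CategoryTheory Limits AlgebraicGeometry Opposite TopologicalSpace

namespace Groth.Agent.Lib.ProperFin.Finite

variable (A : Type u) [CommRing A] {X : Scheme.{u}} [X.Over (Spec (CommRingCat.of A))]

/-- All cohomology groups are finite over the base ring. -/
def QFin (M : X.Modules) : Prop := ∀ n, Module.Finite A (Coh.HH X M n)

variable {A}

lemma finite_of_exact [IsNoetherianRing A] {M N P : Type u} [AddCommGroup M] [Module A M]
    [AddCommGroup N] [Module A N] [AddCommGroup P] [Module A P] [Module.Finite A M]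
    [Module.Finite A P] {f : M →ₗ[A] N} {g : N →ₗ[A] P} (h : Function.Exact f g) :
    Module.Finite A N := by
  haveI : IsNoetherian A N :=
    isNoetherian_of_range_eq_ker f g (LinearMap.exact_iff.mp h).symm
  infer_instance

lemma finite_of_subsingleton {M : Type u} [AddCommGroup M] [Module A M] [Subsingleton M] :
    Module.Finite A M := inferInstance

theorem qfin_of_iso {M N : X.Modules} (e : M ≅ N) (h : QFin A M) : QFin A N := fun n =>
  haveI := h n
  Module.Finite.equiv (Curves.LES.isoK A e n)

theorem qfin_of_isZero {M : X.Modules} (h : IsZero M) : QFin A M := fun n => by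
  haveI : Subsingleton (Coh.HH X M n) := by
    refine subsingleton_of_forall_eq 0 fun x => ?_
    calc x = Curves.LES.mapK A (𝟙 M) n x := by rw [Curves.LES.mapK_id]; rfl
      _ = Curves.LES.mapK A (0 : M ⟶ M) n x := by rw [h.eq_of_src (𝟙 M) 0]
      _ = 0 := by
        have h0 : Curves.LES.toAbMap (0 : M ⟶ M) = 0 :=
          (Curves.LES.F X).map_zero M M
        show Sheaf.H.map (Curves.LES.toAbMap (0 : M ⟶ M)) n x = 0
        rw [h0, Sheaf.H.map_apply, Abelian.Ext.mk₀_zero, Abelian.Ext.comp_zero]
  exact finite_of_subsingleton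

variable [IsNoetherianRing A]

theorem two_out_of_three {S : ShortComplex X.Modules} (hS : S.ShortExact) :
    (QFin A S.X₁ → QFin A S.X₃ → QFin A S.X₂) ∧ (QFin A S.X₂ → QFin A S.X₃ → QFin A S.X₁) ∧
      (QFin A S.X₁ → QFin A S.X₂ → QFin A S.X₃) := by
  refine ⟨fun h₁ h₃ n => ?_, fun h₂ h₃ n => ?_, fun h₁ h₂ n => ?_⟩
  · haveI := h₁ n
    haveI := h₃ n
    exact finite_of_exact (Curves.LES.exactK₂ A hS n)
  · cases n with
    | zero =>
      haveI := h₂ 0
      haveI := hS.mono_f
      exact Module.Finite.of_injective _ (Curves.LES.mapK_injective_of_mono A S.f)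
    | succ n =>
      haveI := h₂ (n + 1)
      haveI := h₃ n
      exact finite_of_exact (Curves.LES.exactK₁ A hS n (n + 1) rfl)
  · haveI := h₂ n
    haveI := h₁ (n + 1)
    exact finite_of_exact (Curves.LES.exactK₃ A hS n (n + 1) rfl)

theorem thick_qfin (T : Set X) : Devissage.Thick T (QFin (X := X) A) where
  of_isZero _ h := qfin_of_isZero h
  two _ hS _ _ _ := two_out_of_three hS

variable {Y : Scheme.{u}} [Y.Over (Spec (CommRingCat.of A))]

omit [IsNoetherianRing A] in
theorem qfin_push (f : Y ⟶ X)
    (hf : f ≫ (X ↘ Spec (CommRingCat.of A)) = Y ↘ Spec (CommRingCat.of A))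
    {B : Set (Opens X)} (hB : Opens.IsBasis B) (M : Y.Modules)
    (hv : ∀ W ∈ B, ∀ q, Subsingleton (CohTop.HU (Coh.toAb M) (q + 1) ((Opens.map f.base).obj W)))
    (h : QFin A M) : QFin A ((Coh.push f).obj M) := fun n => by
  haveI := h n
  let e : Coh.HH X ((Coh.push f).obj M) n ≃ₗ[A] Coh.HH Y M n :=
    { ZarCoh.PushH.pushEquiv f.base hB (Coh.toAb M) hv n with
      map_smul' := fun a x =>
        ZarCoh.Morph.pushH_smul f M n _ _ (ZarCoh.Linear.toGlobal_comp f hf a) x }
  exact Module.Finite.equiv e.symm

end Groth.Agent.Lib.ProperFin.Finite
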