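import Groth.Agent.Lib.ProjTilde.Ample
import Groth.Agent.Lib.Ample.GenLocus
import Mathlib.AlgebraicGeometry.ProjectiveSpectrum.Functor

/-!
# Pullback of twisting sheaves along `Proj` of a graded ring map
-/

noncomputable section

set_option autoImplicit false

universe u

open CategoryTheory AlgebraicGeometry TopologicalSpace Opposite

namespace Groth.Agent.Lib.ProperFin.TwistBC

open Groth.Agent.Lib.ProjTilde.Frac Groth.Agent.Lib.ProjTilde.Basic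
open Groth.Agent.Lib.TensorMod.Dual (rs rs_rs rs_self rs_smul)
open Groth.Agent.Lib.TensorMod.HomGlue (rs_app)
open Groth.Agent.Lib.TensorMod.Gen Groth.Agent.Lib.TensorMod.Pullback

variable {R A : Type u} [CommRing R] [CommRing A] [Algebra R A] {𝒜 : ℕ → Submodule R A} [GradedAlgebra 𝒜]

/-- `g / 1` as a global section of `O(d)`. -/
abbrev degSec {d : ℕ} {g : A} (hg : g ∈ 𝒜 d) : Γ(Twist.twist 𝒜 (d : ℤ), ⊤) :=
  Twist.globalOf 𝒜 (⟨g, hg⟩ : 𝒜 d)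

theorem val_smul_degSec {d : ℕ} {g : A} (hg : g ∈ 𝒜 d) {V : (Proj 𝒜).Opens} (a : Γ(Proj 𝒜, V))
    (x : (V : Opens (ProjectiveSpectrum.top 𝒜))) (h1 : (1 : A) ∉ x.1.asHomogeneousIdeal) :
    (((a • rs (Twist.twist 𝒜 (d : ℤ)) le_top (degSec hg) : Γ(Twist.twist 𝒜 (d : ℤ), V)) :
        Twist.sectN (𝒜 := 𝒜) (d : ℤ) (op V)).1 x : Twist.Loc 𝒜 x.1) =
      ((a : Twist.O (𝒜 := 𝒜) (op V)).1 x).val * Localization.mk g ⟨1, h1⟩ :=
  Twist.coe_smul_val (d : ℤ) x.1 _ _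

/-- `g / 1` generates `O(d)` over `D₊(g)` for `g` of degree `d`. -/
theorem isGen_degSec {d : ℕ} {g : A} (hg : g ∈ 𝒜 d) :
    IsGen (Twist.twist 𝒜 (d : ℤ)) (Proj.basicOpen 𝒜 g) (rs (Twist.twist 𝒜 (d : ℤ)) le_top (degSec hg)) := by
  intro V hV
  have hW : V ≤ Proj.basicOpen 𝒜 (1 * g) := by rwa [one_mul]
  have hc0 : (1 : A) ∈ 𝒜 0 := SetLike.GradedOne.one_mem
  have hn0 : (0 : ℤ) + (d : ℤ) = (d : ℤ) + ((0 : ℕ) : ℤ) := by simp
  let Φ : Twist.sectN (𝒜 := 𝒜) (d : ℤ) (op V) ≃+ GrTilde.sect 𝒜 𝒜 0 (op V) :=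
    (twistEquiv V).trans (mulEquiv (ℳ := 𝒜) (n := (d : ℤ)) (n' := 0) (p := 0) (q := d) (c := 1) (e := g)
      hc0 hg hn0 hW)
  have hΦ : (fun a : Γ(Proj 𝒜, V) => a • rs (Twist.twist 𝒜 (d : ℤ)) hV
      (rs (Twist.twist 𝒜 (d : ℤ)) le_top (degSec hg))) = Φ.symm ∘ ofFun (𝒜 := 𝒜) (U := V) := by
    funext a
    rw [Function.comp_apply, rs_rs]
    refine ((AddEquiv.symm_apply_eq Φ).2 (sect_ext fun x => ?_)).symm
    have h1 : (1 : A) ∉ x.1.asHomogeneousIdeal := fun h => x.1.isPrime.ne_top ((Ideal.eq_top_iff_one _).mpr h)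
    have hgx : g ∉ x.1.asHomogeneousIdeal := fun h => hV x.2 h
    refine Eq.symm ((val_mulSec hc0 hg hn0 hW _ x).trans ?_)
    refine (congrArg (unitAt x.1 1 g hgx • ·)
      ((val_twistToTilde _ x).trans (val_smul_degSec hg a x h1))).trans ?_
    change unitAt x.1 1 g hgx * (((a : Twist.O (𝒜 := 𝒜) (op V)).1 x).val * Localization.mk g ⟨1, h1⟩) =
      ((a : Twist.O (𝒜 := 𝒜) (op V)).1 x).val
    rw [mul_left_comm, unitAt, unitAt_mul_unitAt x.1 h1 hgx |> fun h => (mul_comm _ _).trans h, mul_one]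
  rw [hΦ]
  exact Φ.symm.bijective.comp ⟨ofFun_injective, ofFun_surjective⟩

variable {S B : Type u} [CommRing S] [CommRing B] [Algebra S B] {ℬ : ℕ → Submodule S B} [GradedAlgebra ℬ]
variable (φ : 𝒜 →+*ᵍ ℬ)
  (hφ : HomogeneousIdeal.irrelevant ℬ ≤ (HomogeneousIdeal.irrelevant 𝒜).map φ)

/-- The map of localizations at a point and at its image. -/
abbrev locMap (y : ProjectiveSpectrum ℬ) :
    Twist.Loc 𝒜 (ProjectiveSpectrum.comap φ hφ y) →+* Twist.Loc ℬ y :=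
  Localization.localRingHom _ _ φ.toRingHom rfl

theorem locMap_mk (y : ProjectiveSpectrum ℬ) (a s : A)
    (hs : s ∉ (ProjectiveSpectrum.comap φ hφ y).asHomogeneousIdeal) :
    locMap φ hφ y (Localization.mk a ⟨s, hs⟩) = Localization.mk (φ a) ⟨φ s, hs⟩ := by
  rw [Localization.mk_eq_mk', Localization.localRingHom_mk', Localization.mk_eq_mk']
  rfl

/-- Pulling back sections of a twist, pointwise. -/
def comapFun {n : ℤ} {U : Opens (ProjectiveSpectrum.top 𝒜)} (σ : Twist.sectN (𝒜 := 𝒜) n (op U))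
    (y : ((Proj.map φ hφ) ⁻¹ᵁ U : (Proj ℬ).Opens)) : Twist.twistAt ℬ n y.1 :=
  ⟨locMap φ hφ y.1 (σ.1 ⟨ProjectiveSpectrum.comap φ hφ y.1, y.2⟩).1, by
    obtain ⟨V, hyV, i, k, j, a, s, nin, hij, hv⟩ := σ.2 ⟨ProjectiveSpectrum.comap φ hφ y.1, y.2⟩
    have e := hv ⟨_, hyV⟩
    dsimp only at e
    erw [e]
    rw [locMap_mk φ hφ]
    rcases hij with hij | ha
    · exact Submodule.subset_span
        ⟨k, j, ⟨φ a.1, φ.map_mem a.2⟩, ⟨φ s.1, φ.map_mem s.2⟩, nin ⟨_, hyV⟩, hij, rfl⟩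
    · rw [ha, map_zero, Localization.mk_zero]
      exact zero_mem _⟩

theorem comapFun_mem {n : ℤ} {U : Opens (ProjectiveSpectrum.top 𝒜)} (σ : Twist.sectN (𝒜 := 𝒜) n (op U)) :
    (Twist.isLocFracN ℬ n).pred (U := (Proj.map φ hφ) ⁻¹ᵁ U) (comapFun φ hφ σ) := fun y => by
  obtain ⟨V, hyV, i, k, j, a, s, nin, hij, hv⟩ := σ.2 ⟨ProjectiveSpectrum.comap φ hφ y.1, y.2⟩
  refine ⟨(Proj.map φ hφ) ⁻¹ᵁ V, hyV, homOfLE fun z hz => i.le hz, k, j,
    ⟨φ a.1, φ.map_mem a.2⟩, ⟨φ s.1, φ.map_mem s.2⟩, fun z => nin ⟨_, z.2⟩, ?_, fun z => ?_⟩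
  · exact hij.imp id fun h => by show φ a.1 = 0; rw [h, map_zero]
  · have e := hv ⟨_, z.2⟩
    dsimp only at e
    show locMap φ hφ z.1 _ = _
    erw [e]
    exact locMap_mk φ hφ _ _ _ _

/-- The comparison map on sections. -/
def comapHom (n : ℤ) (U : (Proj 𝒜).Opens) :
    Γ(Twist.twist 𝒜 n, U) →+ Γ((pf (Proj.map φ hφ)).obj (Twist.twist ℬ n), U) where
  toFun σ := (⟨comapFun φ hφ σ, comapFun_mem φ hφ σ⟩ :
    Twist.sectN (𝒜 := ℬ) n (op ((Proj.map φ hφ) ⁻¹ᵁ U)))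
  map_zero' := Subtype.ext (funext fun y => Subtype.ext (map_zero (locMap φ hφ y.1)))
  map_add' σ τ := Subtype.ext (funext fun y => Subtype.ext (map_add (locMap φ hφ y.1) _ _))

theorem comapHom_smul (n : ℤ) (U : (Proj 𝒜).Opens) (r : Γ(Proj 𝒜, U)) (σ : Γ(Twist.twist 𝒜 n, U)) :
    comapHom φ hφ n U (r • σ) = r • comapHom φ hφ n U σ := by
  refine Subtype.ext (funext fun y => Subtype.ext ?_)
  refine Eq.trans ?_ (Twist.coe_smul_val n y.1 _ _).symm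
  show locMap φ hφ y.1 _ = _
  erw [Twist.coe_smul_val n (ProjectiveSpectrum.comap φ hφ y.1) _ _, map_mul]
  congr 1
  exact (HomogeneousLocalization.val_localRingHom ..).symm

/-- `O(n) ⟶ p_* O(n)` for `p = Proj.map φ`. -/
def comapMap (n : ℤ) : Twist.twist 𝒜 n ⟶ (pf (Proj.map φ hφ)).obj (Twist.twist ℬ n) :=
  ProjTilde.Hom.homMk (comapHom φ hφ n) (comapHom_smul φ hφ n) (fun _ _ _ _ => rfl)

/-- The comparison map `p^* O(n) ⟶ O(n)`. -/
def comparison (n : ℤ) : (pb (Proj.map φ hφ)).obj (Twist.twist 𝒜 n) ⟶ Twist.twist ℬ n :=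
  ((pbAdj (Proj.map φ hφ)).homEquiv _ _).symm (comapMap φ hφ n)

theorem comparison_unitSec (n : ℤ) (U : (Proj 𝒜).Opens) (σ : Γ(Twist.twist 𝒜 n, U)) :
    (comparison φ hφ n).app ((Proj.map φ hφ) ⁻¹ᵁ U) (unitSec _ _ σ) = comapHom φ hφ n U σ := by
  have h := ((pbAdj (Proj.map φ hφ)).homEquiv_unit (f := comparison φ hφ n)).symm.trans
    (((pbAdj (Proj.map φ hφ)).homEquiv _ _).apply_symm_apply (comapMap φ hφ n))
  exact congrArg (fun t => t.app U σ) h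

theorem comapHom_degSec {d : ℕ} {g : A} (hg : g ∈ 𝒜 d) :
    comapHom φ hφ (d : ℤ) (Proj.basicOpen 𝒜 g) (rs (Twist.twist 𝒜 (d : ℤ)) le_top (degSec hg)) =
      rs (Twist.twist ℬ (d : ℤ)) le_top (degSec (φ.map_mem hg)) := by
  refine Subtype.ext (funext fun y => Subtype.ext ?_)
  refine (locMap_mk φ hφ y.1 g 1 ?_).trans ?_
  change Localization.mk _ _ = Localization.mk _ _
  simp only [map_one]
  rfl

/-- `p^* O(d) ≅ O(d)` when degree one elements of `𝒜` have no common zero. -/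
theorem nonempty_pullback_twist_iso (hcov : ∀ x : ProjectiveSpectrum 𝒜, ∃ f ∈ 𝒜 1, f ∉ x.asHomogeneousIdeal)
    (d : ℕ) :
    Nonempty ((pb (Proj.map φ hφ)).obj (Twist.twist 𝒜 (d : ℤ)) ≅ Twist.twist ℬ (d : ℤ)) := by
  haveI : IsIso (comparison φ hφ (d : ℤ)) := TensorMod.LocIso.isIso_of_locally _ fun y => by
    obtain ⟨f, hf, hfy⟩ := hcov (ProjectiveSpectrum.comap φ hφ y)
    have hg : f ^ d ∈ 𝒜 d := by
      have := SetLike.pow_mem_graded d hf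
      rwa [smul_eq_mul, mul_one] at this
    have hgen := Ample.GenLocus.isGen_unitSec (Proj.map φ hφ) (isGen_degSec hg)
    have hgen' := isGen_degSec (φ.map_mem hg)
    have hU : (Proj.map φ hφ) ⁻¹ᵁ Proj.basicOpen 𝒜 (f ^ d) = Proj.basicOpen ℬ (φ (f ^ d)) :=
      Proj.map_preimage_basicOpen φ hφ (f ^ d)
    refine ⟨(Proj.map φ hφ) ⁻¹ᵁ Proj.basicOpen 𝒜 (f ^ d),
      fun h => hfy ((ProjectiveSpectrum.comap φ hφ y).isPrime.mem_of_pow_mem d h), fun V hV => ?_⟩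
    refine (ConcreteCategory.isIso_iff_bijective _).2 ((Function.Bijective.of_comp_iff _ (hgen V hV)).1 ?_)
    have key : (comparison φ hφ (d : ℤ)).app V ∘ (fun a : Γ(Proj ℬ, V) => a • rs _ hV
        (unitSec (Proj.map φ hφ) _ (rs (Twist.twist 𝒜 (d : ℤ)) le_top (degSec hg)))) =
        fun a => a • rs _ (hV.trans hU.le) (rs (Twist.twist ℬ (d : ℤ)) le_top (degSec (φ.map_mem hg))) := by
      funext a
      rw [Function.comp_apply, Scheme.Modules.Hom.app_smul, ← rs_app, comparison_unitSec, comapHom_degSec,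
        rs_rs, rs_rs]
    rw [key]
    exact hgen' V (hV.trans hU.le)
  exact ⟨asIso (comparison φ hφ (d : ℤ))⟩

end Groth.Agent.Lib.ProperFin.TwistBC
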