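import Groth.Agent.Lib.ProperFin.LocalVanishing
import Groth.Agent.Lib.ProperFin.Finite

/-!
# Direct images: vanishing on a basis from vanishing over an affine cover
-/

set_option autoImplicit false
set_option linter.style.haveILetI false

universe u

open CategoryTheory Limits AlgebraicGeometry Opposite TopologicalSpace

namespace Groth.Agent.Lib.ProperFin.PushVanish

variable {X Y : Scheme.{u}} (f : Y ⟶ X) {κ : Type*} (V : κ → X.Opens)

/-- Basic opens of the members of a family. -/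
def basics : Set (Opens X) := {W | ∃ (k : κ) (g : Γ(X, V k)), W = X.basicOpen g}

theorem isBasis_basics (hV : ∀ k, IsAffineOpen (V k)) (hcov : ⨆ k, V k = ⊤) :
    Opens.IsBasis (basics V) := by
  rw [Opens.isBasis_iff_nbhd]
  intro U x hx
  obtain ⟨k, hk⟩ : ∃ k, x ∈ V k := by
    have : x ∈ (⨆ k, V k : X.Opens) := by rw [hcov]; trivial
    exact Opens.mem_iSup.mp this
  obtain ⟨g, hgU, hxg⟩ := (hV k).exists_basicOpen_le (V := U) ⟨x, hx⟩ hk
  exact ⟨X.basicOpen g, ⟨k, g, rfl⟩, hxg, hgU⟩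

/-- Vanishing over the members of an affine cover gives vanishing over a basis. -/
theorem vanishing_basics (M : Y.Modules) [M.IsQuasicoherent]
    (hcov : ∀ k, ∃ (ι : Type u) (_ : _root_.Finite ι) (U : ι → Y.Opens),
      LocalVanishing.AffInter U ∧ iSup U = f ⁻¹ᵁ (V k))
    (hv : ∀ k n, Subsingleton (CohTop.HU (Coh.toAb M) (n + 1) (f ⁻¹ᵁ (V k)))) :
    ∀ W ∈ basics V, ∀ q, Subsingleton (CohTop.HU (Coh.toAb M) (q + 1) ((Opens.map f.base).obj W)) := by
  rintro _ ⟨k, g, rfl⟩ q
  obtain ⟨ι, _, U, hA, hU⟩ := hcov k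
  show Subsingleton (CohTop.HU (Coh.toAb M) (q + 1) (f ⁻¹ᵁ X.basicOpen g))
  rw [Scheme.preimage_basicOpen]
  exact LocalVanishing.subsingleton_HU_basicOpen M U hA hU (hv k) _ q

/-- Coherence of a direct image from finiteness of sections over an affine cover. -/
theorem isCoh_push [IsLocallyNoetherian X] [QuasiCompact f] [QuasiSeparated f] (M : Y.Modules)
    [M.IsQuasicoherent] (hV : ∀ k, IsAffineOpen (V k)) (hcov : ⨆ k, V k = ⊤)
    (hfin : ∀ k, Module.Finite Γ(X, V k) Γ((Coh.push f).obj M, V k)) :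
    Coh.IsCoh ((Coh.push f).obj M) := by
  haveI : ((Coh.push f).obj M : X.Modules).IsQuasicoherent :=
    QCoh.Pushforward.isQCoh_pushforward f (M := M)
  refine ⟨inferInstance, CohBasics.Affine.isFiniteType_of_finite_sections fun x => ?_⟩
  obtain ⟨k, hk⟩ : ∃ k, x ∈ V k := by
    have : x ∈ (⨆ k, V k : X.Opens) := by rw [hcov]; trivial
    exact Opens.mem_iSup.mp this
  exact ⟨V k, hV k, hk, hfin k⟩

/-- Finite cohomology of a direct image without higher cohomology over an affine cover. -/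
theorem qfin_push {A : Type u} [CommRing A] [X.Over (Spec (CommRingCat.of A))]
    [Y.Over (Spec (CommRingCat.of A))]
    (hf : f ≫ (X ↘ Spec (CommRingCat.of A)) = Y ↘ Spec (CommRingCat.of A))
    (M : Y.Modules) [M.IsQuasicoherent] (hV : ∀ k, IsAffineOpen (V k)) (hcov : ⨆ k, V k = ⊤)
    (hpre : ∀ k, ∃ (ι : Type u) (_ : _root_.Finite ι) (U : ι → Y.Opens),
      LocalVanishing.AffInter U ∧ iSup U = f ⁻¹ᵁ (V k))
    (hv : ∀ k n, Subsingleton (CohTop.HU (Coh.toAb M) (n + 1) (f ⁻¹ᵁ (V k))))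
    (h : Finite.QFin A M) : Finite.QFin A ((Coh.push f).obj M) :=
  Finite.qfin_push f hf (isBasis_basics V hV hcov) M (vanishing_basics f V M hpre hv) h

end Groth.Agent.Lib.ProperFin.PushVanish
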