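import Groth.Agent.Lib.Cech.Criterion
import Groth.Agent.Lib.Cech.Compare

/-!
# Cech exactness and vanishing on an open

For a family `U` with union `W` whose finite intersections are acyclic for `F`, the positive Cech
groups vanish iff `F` has no higher cohomology on `W`.
-/

set_option autoImplicit false
set_option linter.style.haveILetI false

universe u

open CategoryTheory CategoryTheory.Limits TopologicalSpace Opposite

namespace Groth.Agent.Lib.ProperFin.CechLeray

open Groth.Agent.Lib.Cech.Complex Groth.Agent.Lib.Cech.Sections Groth.Agent.Lib.Cech.Acyclic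
open Groth.Agent.Lib.Cech.Criterion
open Groth.Agent.Lib.Cech.Compare (InterAcyclic interAcyclic_X₃)

variable {X : TopCat.{u}} {ι : Type u} (U : ι → Opens X) {W : Opens X}

section SES

variable {U} {S : ShortComplex (CohTop.Ab X)} (hS : S.ShortExact)

include hS in
lemma app_surjective_inter (hI : InterAcyclic U S.X₁) {q : ℕ} (i : Fin (q + 1) → ι) :
    Function.Surjective (S.g.hom.app (op (inter U i))) :=
  haveI := hI q i 0
  app_surjective hS _

include hS in
theorem app_surjective_top (hI : InterAcyclic U S.X₁) (hW : iSup U = W)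
    (hex : ExactSucc U S.X₁.obj 0) : Function.Surjective (S.g.hom.app (op W)) := by
  intro s
  have hU : ∀ i, U i ≤ W := fun i => (le_iSup U i).trans hW.le
  choose t ht using fun i : Fin 1 → ι =>
    app_surjective_inter hS hI i (aug U S.X₃.obj hU s i)
  have ht' : Groth.Agent.Lib.Cech.Complex.map S.g.hom 0 t = aug U S.X₃.obj hU s := funext ht
  obtain ⟨c, hc⟩ := exists_map_eq hS U 1 (dC U S.X₂.obj 0 t) (by rw [map_dC, ht', dC_aug])
  obtain ⟨b, hb⟩ := hex c (map_f_injective hS U 2 (by rw [map_dC, hc, dC_dC, map_zero]))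
  obtain ⟨r, hr⟩ := exists_aug_eq U S.X₂ hW (t - Groth.Agent.Lib.Cech.Complex.map S.f.hom 0 b)
    (by rw [map_sub, ← map_dC, hb, hc, sub_self])
  refine ⟨r, aug_injective U S.X₃ hW ?_⟩
  rw [← ht']
  refine funext fun i => ?_
  have := congrArg (S.g.hom.app (op (inter U i))) (congr_fun hr i)
  rw [Pi.sub_apply, map_sub] at this
  erw [app_zero, sub_zero] at this
  rw [map_apply]
  refine Eq.trans ?_ this
  exact (res_naturality S.g.hom _ r).symm

end SES

/-- Cech exactness gives vanishing on the union. -/
theorem subsingleton_HU_of_exactSucc (hW : iSup U = W) (F : CohTop.Ab X) (hI : InterAcyclic U F)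
    (hex : ∀ q, ExactSucc U F.obj q) (n : ℕ) : Subsingleton (CohTop.HU F (n + 1) W) := by
  induction n generalizing F with
  | zero =>
    have hS := cokerSeq_shortExact (Injective.ι F)
    have : Injective (cokerSeq (Injective.ι F)).X₂ := inferInstanceAs (Injective (Injective.under F))
    exact subsingleton_HU_one hS W (app_surjective_top hS hI hW (hex 0))
  | succ n ih =>
    have hS := cokerSeq_shortExact (Injective.ι F)
    have : Injective (cokerSeq (Injective.ι F)).X₂ := inferInstanceAs (Injective (Injective.under F))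
    have := ih (cokerSeq (Injective.ι F)).X₃ (interAcyclic_X₃ hS hI) (fun q => exactSucc_X₃ hS U
      (fun q i => app_surjective_inter hS hI i) hex q)
    exact subsingleton_HU_X₁ hS W n

/-- Vanishing on the union gives Cech exactness. -/
theorem exactSucc_of_subsingleton_HU (hW : iSup U = W) (q : ℕ) :
    ∀ F : CohTop.Ab X, InterAcyclic U F → (∀ n, Subsingleton (CohTop.HU F (n + 1) W)) →
      ExactSucc U F.obj q := by
  induction q with
  | zero =>
    intro F _ hv c hc
    have hS := cokerSeq_shortExact (Injective.ι F)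
    let S := cokerSeq (Injective.ι F)
    have : Injective S.X₂ := inferInstanceAs (Injective (Injective.under F))
    obtain ⟨b, hb⟩ := exactSucc_of_injective U S.X₂ 0 (Groth.Agent.Lib.Cech.Complex.map S.f.hom 1 c)
      (by rw [← map_dC, hc, map_zero])
    have hgb : dC U S.X₃.obj 0 (Groth.Agent.Lib.Cech.Complex.map S.g.hom 0 b) = 0 := by
      rw [← map_dC, hb]
      exact funext fun i => app_zero _ _
    obtain ⟨s, hs⟩ := exists_aug_eq U S.X₃ hW _ hgb
    haveI := hv 0
    obtain ⟨r, hr⟩ := app_surjective hS W s
    have hle : ∀ i, U i ≤ W := fun i => (le_iSup U i).trans hW.le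
    obtain ⟨a, ha⟩ := exists_map_eq hS U 0 (b - aug U S.X₂.obj hle r) (by
      rw [map_sub, sub_eq_zero, ← hs]
      refine funext fun i => ?_
      rw [map_apply]
      refine Eq.trans ?_ (res_naturality S.g.hom _ r).symm
      exact congrArg (res S.X₃.obj _) hr.symm)
    refine ⟨a, map_f_injective hS U 1 ?_⟩
    rw [map_dC, ha, map_sub, dC_aug, sub_zero, hb]
  | succ q ih =>
    intro F hI hv c hc
    have hS := cokerSeq_shortExact (Injective.ι F)
    let S := cokerSeq (Injective.ι F)
    have : Injective S.X₂ := inferInstanceAs (Injective (Injective.under F))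
    obtain ⟨b, hb⟩ := exactSucc_of_injective U S.X₂ (q + 1) (Groth.Agent.Lib.Cech.Complex.map S.f.hom (q + 2) c)
      (by rw [← map_dC, hc, map_zero])
    obtain ⟨e, he⟩ := ih S.X₃ (interAcyclic_X₃ hS hI)
      (fun n => haveI := hv (n + 1); subsingleton_HU_X₃ hS W n)
      (Groth.Agent.Lib.Cech.Complex.map S.g.hom (q + 1) b) (by
        rw [← map_dC, hb]
        exact funext fun i => app_zero _ _)
    choose t ht using fun i : Fin (q + 1) → ι => app_surjective_inter hS hI i (e i)
    have ht' : Groth.Agent.Lib.Cech.Complex.map S.g.hom q t = e := funext ht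
    obtain ⟨a, ha⟩ := exists_map_eq hS U (q + 1) (b - dC U S.X₂.obj q t) (by
      rw [map_sub, map_dC, ht', he, sub_self])
    refine ⟨a, map_f_injective hS U (q + 2) ?_⟩
    rw [map_dC, ha, map_sub, dC_dC, sub_zero, hb]

end Groth.Agent.Lib.ProperFin.CechLeray
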