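import Groth.Agent.Lib.ProperFin.CechLeray
import Groth.Agent.Lib.ZarCoh.Affine
import Groth.Agent.Lib.QCoh.Localizing

/-!
# Vanishing of cohomology passes to basic opens

If `W` has a finite cover with affine intersections and a quasi-coherent module has no higher
cohomology on `W`, it has none on `D(f) ⊆ W` for every function `f` on `W`.
-/

set_option autoImplicit false
set_option linter.style.haveILetI false

universe u

open CategoryTheory CategoryTheory.Limits TopologicalSpace Opposite AlgebraicGeometry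

namespace Groth.Agent.Lib.ProperFin.LocalVanishing

open Groth.Agent.Lib.Cech.Complex

variable {X : Scheme.{u}}

/-- Finite intersections are affine. -/
def AffInter {ι : Type u} (U : ι → X.Opens) : Prop :=
  ∀ {q : ℕ} (i : Fin (q + 1) → ι), IsAffineOpen (inter (X := X.toTopCat) U i)

section Scalar


variable {M : X.Modules} {ι : Type u} {U : ι → X.Opens} {W : X.Opens}

/-- Multiplication of a section by a function on a larger open. -/
noncomputable def act {V W' : X.Opens} (h : V ≤ W') (r : Γ(X, W')) (x : Γ(M, V)) : Γ(M, V) :=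
  QCoh.Localizing.resR h r • x

lemma act_act {V W' : X.Opens} (h : V ≤ W') (r r' : Γ(X, W')) (x : Γ(M, V)) :
    act h r (act h r' x) = act h (r * r') x := by
  simp only [act, map_mul, smul_smul]

lemma act_zero {V W' : X.Opens} (h : V ≤ W') (r : Γ(X, W')) : act h r (0 : Γ(M, V)) = 0 :=
  smul_zero _

lemma act_sum {V W' : X.Opens} (h : V ≤ W') (r : Γ(X, W')) {α : Type*} (s : Finset α)
    (x : α → Γ(M, V)) : act h r (∑ a ∈ s, x a) = ∑ a ∈ s, act h r (x a) :=
  Finset.smul_sum

lemma act_zsmul {V W' : X.Opens} (h : V ≤ W') (r : Γ(X, W')) (z : ℤ) (x : Γ(M, V)) :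
    act h r (z • x) = z • act h r x :=
  smul_comm _ _ _

lemma act_cancel {V W' : X.Opens} (h : V ≤ W') (r : Γ(X, W'))
    (hr : IsUnit (QCoh.Localizing.resR h r)) (x : Γ(M, V)) :
    ∃ y, act h r y = x ∧ ∀ y', act h r y' = x → y' = y := by
  refine ⟨((hr.unit⁻¹ : Γ(X, V)ˣ) : Γ(X, V)) • x, ?_, ?_⟩
  · simp only [act, smul_smul, IsUnit.mul_val_inv, one_smul]
  · rintro y' rfl
    simp only [act, smul_smul, IsUnit.val_inv_mul, one_smul]

lemma res_act {V V' W' : X.Opens} (h : V ≤ V') (h' : V' ≤ W') (r : Γ(X, W')) (x : Γ(M, V')) :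
    res M.presheaf h (act h' r x) = act (h.trans h') r (res M.presheaf h x) := by
  refine (QCoh.Localizing.res_smul h (QCoh.Localizing.resR h' r) x).trans ?_
  rw [QCoh.Localizing.resR_resR]
  rfl

/-- Multiplication of cochains by a function on a larger open. -/
noncomputable def sc (hU : ∀ {q : ℕ} (i : Fin (q + 1) → ι), inter (X := X.toTopCat) U i ≤ W)
    (r : Γ(X, W)) {q : ℕ} (c : Cochain (X := X.toTopCat) U M.presheaf q) :
    Cochain (X := X.toTopCat) U M.presheaf q :=
  fun i => act (hU i) r (c i)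

variable (hU : ∀ {q : ℕ} (i : Fin (q + 1) → ι), inter (X := X.toTopCat) U i ≤ W)

lemma sc_sc (r r' : Γ(X, W)) {q : ℕ} (c : Cochain (X := X.toTopCat) U M.presheaf q) :
    sc hU r (sc hU r' c) = sc hU (r * r') c :=
  funext fun i => act_act _ _ _ _

lemma sc_zero (r : Γ(X, W)) {q : ℕ} : sc hU r (0 : Cochain (X := X.toTopCat) U M.presheaf q) = 0 :=
  funext fun i => act_zero (hU i) r

lemma dC_sc (r : Γ(X, W)) {q : ℕ} (c : Cochain (X := X.toTopCat) U M.presheaf q) :
    dC U M.presheaf q (sc hU r c) = sc hU r (dC U M.presheaf q c) := by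
  funext i
  simp only [sc, dC_apply]
  refine Eq.trans ?_ (act_sum _ _ _ _).symm
  refine Finset.sum_congr rfl fun a _ => ?_
  rw [res_act]
  exact (act_zsmul _ _ _ _).symm

lemma sc_cancel (r : Γ(X, W))
    (hr : ∀ {q : ℕ} (i : Fin (q + 1) → ι), IsUnit (QCoh.Localizing.resR (hU i) r))
    {q : ℕ} (c : Cochain (X := X.toTopCat) U M.presheaf q) :
    ∃ b, sc hU r b = c ∧ ∀ b', sc hU r b' = c → b' = b := by
  choose y hy hy' using fun i => act_cancel (M := M) (hU i) r (hr i) (c i)
  exact ⟨y, funext hy, fun b' hb' => funext fun i => hy' i _ (congr_fun hb' i)⟩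

end Scalar

theorem subsingleton_HU_basicOpen (M : X.Modules) [M.IsQuasicoherent] {ι : Type u} [Finite ι]
    (U : ι → X.Opens) (hA : AffInter U) {W : X.Opens} (hW : iSup U = W)
    (h : ∀ n, Subsingleton (CohTop.HU (Coh.toAb M) (n + 1) W)) (f : Γ(X, W)) (n : ℕ) :
    Subsingleton (CohTop.HU (Coh.toAb M) (n + 1) (X.basicOpen f)) := by
  have hle : ∀ {q : ℕ} (i : Fin (q + 1) → ι), inter (X := X.toTopCat) U i ≤ W := fun {q} i =>
    (inter_le U i 0).trans ((le_iSup U _).trans hW.le)
  let D : ι → X.Opens := fun k => U k ⊓ X.basicOpen f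
  have hinter : ∀ {q : ℕ} (i : Fin (q + 1) → ι), inter (X := X.toTopCat) D i =
      X.basicOpen (QCoh.Localizing.resR (hle i) f) := by
    intro q i
    rw [show X.basicOpen (QCoh.Localizing.resR (hle i) f) = inter (X := X.toTopCat) U i ⊓ X.basicOpen f
      from Scheme.basicOpen_res X f (homOfLE (hle i)).op]
    exact le_antisymm (le_inf (le_iInf fun a => (inter_le D i a).trans inf_le_left)
      ((inter_le D i 0).trans inf_le_right))
      (le_iInf fun a => le_inf (inf_le_left.trans (inter_le U i a)) inf_le_right)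
  have hAU : Cech.Compare.InterAcyclic (X := X.toTopCat) U (Coh.toAb M) := fun q i n =>
    ZarCoh.Affine.HU_subsingleton M (hA i) n
  have hAD : Cech.Compare.InterAcyclic (X := X.toTopCat) D (Coh.toAb M) := fun q i n => by
    rw [hinter i]
    exact ZarCoh.Affine.HU_subsingleton M ((hA i).basicOpen _) n
  have hD : iSup D = X.basicOpen f := by
    rw [← iSup_inf_eq, hW]
    exact inf_eq_right.2 (X.basicOpen_le f)
  refine CechLeray.subsingleton_HU_of_exactSucc (X := X.toTopCat) D hD _ hAD (fun q => ?_) n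
  show ExactSucc (X := X.toTopCat) D M.presheaf q
  intro c hc
  have : Fintype ι := Fintype.ofFinite ι
  classical
  have hDU : ∀ {p : ℕ} (i : Fin (p + 1) → ι),
      inter (X := X.toTopCat) D i ≤ inter (X := X.toTopCat) U i := fun i =>
    le_iInf fun a => (inter_le D i a).trans inf_le_left
  have hleD : ∀ {p : ℕ} (i : Fin (p + 1) → ι), inter (X := X.toTopCat) D i ≤ W := fun i =>
    (hDU i).trans (hle i)
  let rest : ∀ p, Cochain (X := X.toTopCat) U M.presheaf p →
      Cochain (X := X.toTopCat) D M.presheaf p := fun p b i => res M.presheaf (hDU i) (b i)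
  have rest_d : ∀ p (b : Cochain (X := X.toTopCat) U M.presheaf p),
      dC D M.presheaf p (rest p b) = rest (p + 1) (dC U M.presheaf p b) := by
    intro p b
    funext i
    simp only [rest, dC_apply, map_sum, map_zsmul, res_res]
  have rest_sc : ∀ {p : ℕ} (r : Γ(X, W)) (b : Cochain (X := X.toTopCat) U M.presheaf p),
      rest p (sc hle r b) = sc hleD r (rest p b) := fun r b =>
    funext fun i => res_act (hDU i) (hle i) r (b i)
  -- lift the cocycle
  have hext : ∀ i : Fin (q + 2) → ι, ∃ (N : ℕ) (t : Γ(M, inter (X := X.toTopCat) U i)),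
      res M.presheaf (hDU i) t = act (hleD i) (f ^ N) (c i) := by
    intro i
    obtain ⟨N, t, ht⟩ := ((QCoh.Localizing.localizes_of_isAffineOpen M (hA i)
      (QCoh.Localizing.resR (hle i) f)).ext').exists_of_eq (hinter i) (hDU i) (c i)
    refine ⟨N, t, ht.trans ?_⟩
    show _ = QCoh.Localizing.resR _ (f ^ N) • _
    rw [map_pow, QCoh.Localizing.resR_resR]
  choose N t ht using hext
  let N₀ := Finset.univ.sup N
  let t' : Cochain (X := X.toTopCat) U M.presheaf (q + 1) := fun i =>
    act (hle i) (f ^ (N₀ - N i)) (t i)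
  have ht' : rest (q + 1) t' = sc hleD (f ^ N₀) c := by
    funext i
    refine (res_act (hDU i) (hle i) (f ^ (N₀ - N i)) (t i)).trans ?_
    rw [ht i, act_act, ← pow_add, Nat.sub_add_cancel (Finset.le_sup (Finset.mem_univ i))]
    rfl
  have hdt : ∀ j, res M.presheaf (hDU j) (dC U M.presheaf (q + 1) t' j) = 0 := by
    intro j
    refine congr_fun (a := j) (f := rest (q + 2) (dC U M.presheaf (q + 1) t')) (g := 0) ?_
    rw [← rest_d, ht', dC_sc, hc, sc_zero]
  have hsep : ∀ j, ∃ m : ℕ,
      act (hle j) (f ^ m) (dC U M.presheaf (q + 1) t' j) = 0 := by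
    intro j
    obtain ⟨m, hm⟩ := ((QCoh.Localizing.localizes_of_isAffineOpen M (hA j)
      (QCoh.Localizing.resR (hle j) f)).sep).exists_of_eq (hinter j) (hDU j) _ (hdt j)
    refine ⟨m, Eq.trans ?_ hm⟩
    show QCoh.Localizing.resR _ (f ^ m) • _ = _
    rw [map_pow]
  choose m hm using hsep
  let m₀ := Finset.univ.sup m
  have hcoc : dC U M.presheaf (q + 1) (sc hle (f ^ m₀) t') = 0 := by
    rw [dC_sc]
    funext j
    show act (hle j) (f ^ m₀) _ = 0
    rw [show m₀ = (m₀ - m j) + m j from (Nat.sub_add_cancel (Finset.le_sup (Finset.mem_univ j))).symm,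
      pow_add, ← act_act, hm, act_zero]
  obtain ⟨b, hb⟩ := CechLeray.exactSucc_of_subsingleton_HU (X := X.toTopCat) U hW q (Coh.toAb M)
    hAU h (sc hle (f ^ m₀) t') hcoc
  -- `f` is invertible on `D`
  have hu : ∀ {p : ℕ} (i : Fin (p + 1) → ι), IsUnit (QCoh.Localizing.resR (hleD i) (f ^ (m₀ + N₀))) := by
    intro p i
    rw [map_pow]
    refine IsUnit.pow _ ?_
    have hd : inter (X := X.toTopCat) D i ≤ X.basicOpen f := (inter_le D i 0).trans inf_le_right
    rw [← QCoh.Localizing.resR_resR (X.basicOpen_le f) hd f]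
    exact (RingedSpace.isUnit_res_basicOpen X.toRingedSpace f).map _
  obtain ⟨b', hb', -⟩ := sc_cancel hleD (f ^ (m₀ + N₀)) hu (rest q b)
  refine ⟨b', ?_⟩
  obtain ⟨c', -, hc'⟩ :=
    sc_cancel hleD (f ^ (m₀ + N₀)) hu (rest (q + 1) (sc hle (f ^ m₀) t'))
  refine (hc' _ ?_).trans (hc' c ?_).symm
  · rw [← dC_sc, hb', rest_d]
    exact congrArg (rest (q + 1)) hb
  · rw [rest_sc, ht', sc_sc, ← pow_add]

end Groth.Agent.Lib.ProperFin.LocalVanishing
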